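/-
Hermite normal form over a power series ring in one variable over a field.
-/
import Mathlib.RingTheory.PowerSeries.Inverse
import Mathlib.RingTheory.PowerSeries.Trunc
import Mathlib.LinearAlgebra.Matrix.NonsingularInverse
import Mathlib.LinearAlgebra.Matrix.ToLin

set_option autoImplicit false
set_option backward.isDefEq.respectTransparency false

universe u

open PowerSeries Matrix

namespace HermiteLib

variable {k : Type u} [Field k] {r : ℕ}

/-- Reduced below degree `e`. -/
def Red (e : ℕ) (a : PowerSeries k) : Prop := ∀ n, e ≤ n → coeff n a = 0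

theorem exists_red (e : ℕ) (a : PowerSeries k) : ∃ q, Red e (a - q * X ^ e) := by
  refine ⟨mk fun n => coeff (n + e) a, fun n hn => ?_⟩
  rw [map_sub, coeff_mul_X_pow', if_pos hn, coeff_mk, Nat.sub_add_cancel hn, sub_self]

theorem eq_zero_of_red {e : ℕ} {a : PowerSeries k} (h : Red e a) (hd : X ^ e ∣ a) : a = 0 := by
  ext n
  rw [map_zero]
  rcases lt_or_ge n e with hn | hn
  · exact X_pow_dvd_iff.1 hd n hn
  · exact h n hn

theorem Red.sub {e : ℕ} {a b : PowerSeries k} (ha : Red e a) (hb : Red e b) : Red e (a - b) :=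
  fun n hn => by rw [map_sub, ha n hn, hb n hn, sub_zero]

variable (M : Matrix (Fin r) (Fin r) (PowerSeries k))

/-- The row module. -/
noncomputable def rows : Submodule (PowerSeries k) (Fin r → PowerSeries k) :=
  LinearMap.range M.vecMulLinear

/-- Elements of the row module vanishing before `s`. -/
noncomputable def rowsGe (s : ℕ) : Submodule (PowerSeries k) (Fin r → PowerSeries k) where
  carrier := {v | v ∈ rows M ∧ ∀ i : Fin r, (i : ℕ) < s → v i = 0}
  zero_mem' := ⟨zero_mem _, fun _ _ => rfl⟩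
  add_mem' := fun hv hw => ⟨add_mem hv.1 hw.1, fun i hi => by
    rw [Pi.add_apply, hv.2 i hi, hw.2 i hi, add_zero]⟩
  smul_mem' := fun c v hv => ⟨Submodule.smul_mem _ c hv.1, fun i hi => by
    rw [Pi.smul_apply, hv.2 i hi, smul_zero]⟩

theorem rowsGe_anti {s t : ℕ} (h : s ≤ t) : rowsGe M t ≤ rowsGe M s :=
  fun _ hv => ⟨hv.1, fun i hi => hv.2 i (hi.trans_le h)⟩

theorem mem_rows_row (i : Fin r) : M i ∈ rows M := ⟨Pi.single i 1, by simp; rfl⟩

variable {M} (hM : M.det ≠ 0)
include hM

theorem exists_pivot (j : Fin r) : ∃ (e : ℕ) (g : Fin r → PowerSeries k),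
    g ∈ rowsGe M j ∧ g j = X ^ e ∧ ∀ v ∈ rowsGe M j, X ^ e ∣ v j := by
  classical
  let I : Ideal (PowerSeries k) := (rowsGe M j).map (LinearMap.proj j)
  have hI : I ≠ ⊥ := by
    intro h
    have hmem : M.det • Pi.single j (1 : PowerSeries k) ∈ rowsGe M j := by
      refine ⟨⟨Pi.single j 1 ᵥ* M.adjugate, ?_⟩, fun i hi => ?_⟩
      · rw [Matrix.vecMulLinear_apply, Matrix.vecMul_vecMul, Matrix.adjugate_mul,
          Matrix.vecMul_smul, Matrix.vecMul_one]
      · rw [Pi.smul_apply, Pi.single_eq_of_ne (fun h => hi.ne (congrArg Fin.val h)), smul_zero]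
    have h1 : (M.det • Pi.single j (1 : PowerSeries k) : Fin r → PowerSeries k) j ∈ I :=
      ⟨_, hmem, rfl⟩
    rw [h, Ideal.mem_bot, Pi.smul_apply, Pi.single_eq_same, smul_eq_mul, mul_one] at h1
    exact hM h1
  obtain ⟨e, he⟩ := IsDiscreteValuationRing.ideal_eq_span_pow_irreducible hI PowerSeries.X_irreducible
  have hX : (X : PowerSeries k) ^ e ∈ I := he ▸ Ideal.mem_span_singleton_self _
  obtain ⟨g, hg, hgj⟩ := hX
  refine ⟨e, g, hg, hgj, fun v hv => ?_⟩
  have : v j ∈ I := ⟨v, hv, rfl⟩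
  rwa [he, Ideal.mem_span_singleton] at this

theorem existsUnique_hermite :
    ∃! H : Matrix (Fin r) (Fin r) (PowerSeries k),
      (∃ e : Fin r → ℕ, (∀ i, H i i = PowerSeries.X ^ e i) ∧ (∀ i j, j < i → H i j = 0) ∧
        (∀ i j, i < j → ∀ n, e j ≤ n → PowerSeries.coeff n (H i j) = 0)) ∧
      ∃ N : Matrix (Fin r) (Fin r) (PowerSeries k), IsUnit N ∧ N * M = H := by
  classical
  choose e g hg hge hdvd using exists_pivot hM
  -- reduction
  have red : ∀ (t s : ℕ), s + t = r → ∀ v : Fin r → PowerSeries k,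
      ∃ l ∈ rowsGe M s, ∀ i : Fin r, s ≤ i → Red (e i) ((v - l) i) := by
    intro t
    induction t with
    | zero => exact fun s hs v => ⟨0, zero_mem _, fun i hi => absurd i.2 (by omega)⟩
    | succ t ih =>
      intro s hs v
      have hsr : s < r := by omega
      obtain ⟨q, hq⟩ := exists_red (e ⟨s, hsr⟩) (v ⟨s, hsr⟩)
      obtain ⟨l, hl, hred⟩ := ih (s + 1) (by omega) (v - q • g ⟨s, hsr⟩)
      refine ⟨q • g ⟨s, hsr⟩ + l,
        add_mem (Submodule.smul_mem _ q (hg ⟨s, hsr⟩)) (rowsGe_anti M (Nat.le_succ s) hl),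
        fun i hi => ?_⟩
      rcases Nat.eq_or_lt_of_le hi with h | h
      · obtain rfl : i = ⟨s, hsr⟩ := Fin.ext h.symm
        rw [Pi.sub_apply, Pi.add_apply, hl.2 _ (Nat.lt_succ_self s), add_zero, Pi.smul_apply,
          hge, smul_eq_mul]
        exact hq
      · rw [← sub_sub]
        exact hred i h
  -- a reduced element of the row module vanishes
  have red0 : ∀ (s : ℕ) (v : Fin r → PowerSeries k), v ∈ rowsGe M s →
      (∀ i : Fin r, s ≤ i → Red (e i) (v i)) → v = 0 := by
    intro s v hv h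
    by_contra hne
    obtain ⟨i, hi⟩ := Function.ne_iff.1 hne
    let S : Finset (Fin r) := Finset.univ.filter fun j => v j ≠ 0
    have hS : S.Nonempty := ⟨i, by simpa [S] using hi⟩
    have hmin : v (S.min' hS) ≠ 0 := (Finset.mem_filter.1 (S.min'_mem hS)).2
    have hs : s ≤ (S.min' hS : ℕ) := le_of_not_gt fun hlt => hmin (hv.2 _ hlt)
    refine hmin (eq_zero_of_red (h _ hs) (hdvd _ v ⟨hv.1, fun j hj => ?_⟩))
    by_contra hj'
    exact absurd (S.min'_le j (by simpa [S] using hj')) (not_le.2 hj)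
  choose l hl hl' using fun i : Fin r => red (r - (i + 1)) (i + 1) (by omega) (g i)
  let H : Matrix (Fin r) (Fin r) (PowerSeries k) := fun i => g i - l i
  have hH : ∀ i : Fin r, H i ∈ rowsGe M (i : ℕ) :=
    fun i => sub_mem (hg i) (rowsGe_anti M (Nat.le_succ i) (hl i))
  have hdiag : ∀ i, H i i = X ^ e i := fun i => by
    show g i i - l i i = _
    rw [(hl i).2 i (Nat.lt_succ_self i), sub_zero, hge]
  have hlow : ∀ i j, j < i → H i j = 0 := fun i j hji => (hH i).2 j hji
  have hup : ∀ i j, i < j → Red (e j) (H i j) := fun i j hij => hl' i j hij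
  -- the rows generate
  have gen : ∀ (t s : ℕ), s + t = r → ∀ v ∈ rowsGe M s, v ∈ Submodule.span (PowerSeries k) (Set.range H) := by
    intro t
    induction t with
    | zero =>
      intro s hs v hv
      rw [show v = 0 from funext fun i => hv.2 i (by omega)]
      exact zero_mem _
    | succ t ih =>
      intro s hs v hv
      have hsr : s < r := by omega
      obtain ⟨c, hc⟩ := hdvd ⟨s, hsr⟩ v hv
      have h1 := ih (s + 1) (by omega) (v - c • H ⟨s, hsr⟩) ⟨(sub_mem hv
        (Submodule.smul_mem (rowsGe M s) c (hH ⟨s, hsr⟩))).1, fun i hi => ?_⟩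
      · have := add_mem h1 (Submodule.smul_mem _ c (Submodule.subset_span ⟨⟨s, hsr⟩, rfl⟩))
        rwa [sub_add_cancel] at this
      · rw [Pi.sub_apply, Pi.smul_apply]
        rcases Nat.lt_succ_iff_lt_or_eq.1 hi with h | h
        · rw [hv.2 i h, hlow _ _ h, smul_zero, sub_zero]
        · obtain rfl : i = ⟨s, hsr⟩ := Fin.ext h
          rw [hc, hdiag, smul_eq_mul, mul_comm, sub_self]
  choose N hN using fun i => (hH i).1
  have hNM : (Matrix.of N) * M = H := by
    refine Matrix.ext fun i j => ?_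
    rw [Matrix.mul_apply_eq_vecMul]
    exact congrFun (hN i) j
  have hspan : ∀ i, ∃ c : Fin r → PowerSeries k, c ᵥ* H = M i := fun i => by
    have h1 := gen r 0 (zero_add r) (M i) ⟨mem_rows_row M i, fun j hj => absurd hj (Nat.not_lt_zero _)⟩
    obtain ⟨c, hc⟩ := (Submodule.mem_span_range_iff_exists_fun _).1 h1
    refine ⟨c, ?_⟩
    rw [← hc, Matrix.vecMul_eq_sum]
  choose N' hN' using hspan
  have hN'H : (Matrix.of N') * H = M := by
    refine Matrix.ext fun i j => ?_
    rw [Matrix.mul_apply_eq_vecMul]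
    exact congrFun (hN' i) j
  have hunit : IsUnit (Matrix.of N) := by
    rw [Matrix.isUnit_iff_isUnit_det]
    have h1 : M.det = (Matrix.of N').det * (Matrix.of N).det * M.det := by
      rw [mul_assoc, ← Matrix.det_mul, hNM, ← Matrix.det_mul, hN'H]
    exact IsUnit.of_mul_eq_one_right _
      (mul_right_cancel₀ hM (h1.symm.trans (one_mul _).symm))
  refine ⟨H, ⟨⟨e, hdiag, hlow, fun i j hij n hn => hup i j hij n hn⟩, _, hunit, hNM⟩, ?_⟩
  rintro H' ⟨⟨e', hdiag', hlow', hup'⟩, N₀, hN₀, rfl⟩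
  have hH' : ∀ i : Fin r, (N₀ * M) i ∈ rowsGe M (i : ℕ) := fun i =>
    ⟨⟨N₀ i, by rw [Matrix.vecMulLinear_apply, Matrix.mul_apply_eq_vecMul]⟩, fun j hj => hlow' i j hj⟩
  obtain ⟨N₁, hN₁⟩ := hN₀.exists_left_inv
  have hback : ∀ v ∈ rows M, ∃ c, c ᵥ* (N₀ * M) = v := by
    rintro _ ⟨w, rfl⟩
    refine ⟨w ᵥ* N₁, ?_⟩
    rw [Matrix.vecMul_vecMul, ← Matrix.mul_assoc, hN₁, Matrix.one_mul, Matrix.vecMulLinear_apply]
  have hee : e' = e := funext fun i => by
    obtain ⟨c, hc⟩ := hback (g i) (hg i).1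
    have hc0 : ∀ j, j < i → c j = 0 := by
      intro j
      induction j using WellFoundedLT.induction with
      | _ j ihj =>
        intro hji
        have h0 : g i j = 0 := (hg i).2 j hji
        rw [← hc, Matrix.vecMul, dotProduct, Finset.sum_eq_single j ?_ (by simp)] at h0
        · rw [hdiag'] at h0
          exact (mul_eq_zero.1 h0).resolve_right (pow_ne_zero _ X_ne_zero)
        · intro b _ hb
          rcases lt_or_gt_of_ne hb with h | h
          · rw [ihj b h (h.trans hji), zero_mul]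
          · rw [hlow' b j h, mul_zero]
    have h1 : (X : PowerSeries k) ^ e' i ∣ X ^ e i := by
      rw [← hge i, ← hc, Matrix.vecMul, dotProduct, Finset.sum_eq_single i ?_ (by simp), hdiag']
      · exact dvd_mul_left _ _
      · intro b _ hb
        rcases lt_or_gt_of_ne hb with h | h
        · rw [hc0 b h, zero_mul]
        · rw [hlow' b i h, mul_zero]
    have h2 := hdvd i _ (hH' i)
    rw [hdiag'] at h2
    exact le_antisymm ((pow_dvd_pow_iff X_ne_zero PowerSeries.X_irreducible.not_isUnit).1 h1)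
      ((pow_dvd_pow_iff X_ne_zero PowerSeries.X_irreducible.not_isUnit).1 h2)
  subst hee
  refine funext fun i => ?_
  rw [← sub_eq_zero]
  refine red0 i _ (sub_mem (hH' i) (hH i)) fun j hj => ?_
  rcases Nat.eq_or_lt_of_le hj with h | h
  · obtain rfl : j = i := Fin.ext h.symm
    show Red _ ((N₀ * M) j j - H j j)
    rw [hdiag', hdiag, sub_self]
    exact fun n _ => map_zero _
  · exact Red.sub (hup' i j h) (hup i j h)

end HermiteLib
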